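import Cfsg.Agent.Lib.Block.PrimClass.Avg
import Mathlib.GroupTheory.GroupAction.Basic

/-!
An abelian group acting without common fixed points on a coprime abelian group: on every coset of it
the fixed points have geometric mean at most the square root of the order.
-/

set_option autoImplicit false
set_option linter.unusedSectionVars false

namespace Cfsg.Agent.Block.PrimHalf

open Cfsg.Agent.Block.PrimClass

universe u v

variable {V : Type u} [CommGroup V] [Finite V] {B : Type v} [Group B] [Finite B]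

/-- The product over a subgroup of the translates. -/
noncomputable def nrm (σ : B →* MulAut V) (K : Subgroup B) : V →* V where
  toFun v := have := Fintype.ofFinite K; ∏ k : K, σ k v
  map_one' := by simp
  map_mul' x y := by simp [Finset.prod_mul_distrib]

theorem nrm_apply (σ : B →* MulAut V) (K : Subgroup B) [Fintype K] (v : V) :
    nrm σ K v = ∏ k : K, σ k v :=
  Finset.prod_congr (by ext; simp) fun _ _ => rfl

theorem act_nrm (σ : B →* MulAut V) (K : Subgroup B) (b : B)
    (hb : ∀ k : B, b * k * b⁻¹ ∈ K ↔ k ∈ K) (v : V) : σ b (nrm σ K v) = nrm σ K (σ b v) := by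
  classical
  have := Fintype.ofFinite K
  rw [nrm_apply, nrm_apply, map_prod]
  refine Fintype.prod_equiv
    { toFun := fun k => ⟨b * k * b⁻¹, (hb k).2 k.2⟩
      invFun := fun k => ⟨b⁻¹ * k * b, (hb _).1 (by simp [mul_assoc])⟩
      left_inv := fun k => Subtype.ext (by simp [mul_assoc])
      right_inv := fun k => Subtype.ext (by simp [mul_assoc]) : K ≃ K } _ _ fun k => ?_
  simp only [Equiv.coe_fn_mk]
  rw [← act_mul, ← act_mul]
  congr 2
  group

theorem nrm_fixed (σ : B →* MulAut V) (K : Subgroup B) {k : B} (hk : k ∈ K) (v : V) :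
    σ k (nrm σ K v) = nrm σ K v := by
  classical
  have := Fintype.ofFinite K
  rw [nrm_apply, map_prod]
  refine Fintype.prod_equiv (Equiv.mulLeft (⟨k, hk⟩ : K)) _ _ fun x => ?_
  rw [Equiv.coe_mulLeft, Subgroup.coe_mul, act_mul]

theorem nrm_of_fixed (σ : B →* MulAut V) (K : Subgroup B) {v : V} (h : ∀ k ∈ K, σ k v = v) :
    nrm σ K v = v ^ Nat.card K := by
  classical
  have := Fintype.ofFinite K
  rw [nrm_apply, Finset.prod_congr rfl fun (k : K) _ => h k k.2, Finset.prod_const, Finset.card_univ,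
    Nat.card_eq_fintype_card]

theorem eq_one_of_pow {v : V} {k : ℕ} (hk : (Nat.card V).Coprime k) (h : v ^ k = 1) : v = 1 :=
  orderOf_eq_one_iff.1 (Nat.eq_one_of_dvd_coprimes hk (orderOf_dvd_natCard v)
    (orderOf_dvd_of_pow_eq_one h))

/-- The points of `U` fixed by `K`. -/
def fixedIn (σ : B →* MulAut V) (K : Subgroup B) (U : Subgroup V) : Subgroup V where
  carrier := {u | u ∈ U ∧ ∀ k ∈ K, σ k u = u}
  mul_mem' {x y} hx hy := ⟨mul_mem hx.1 hy.1, fun k hk => by rw [map_mul, hx.2 k hk, hy.2 k hk]⟩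
  one_mem' := ⟨one_mem U, fun _ _ => map_one _⟩
  inv_mem' {x} hx := ⟨inv_mem hx.1, fun k hk => by rw [map_inv, hx.2 k hk]⟩

/-- The points of `U` all whose translates by powers of `g` have trivial norm. -/
noncomputable def killed (σ : B →* MulAut V) (K : Subgroup B) (g : B) (U : Subgroup V) :
    Subgroup V where
  carrier := {u | u ∈ U ∧ ∀ i : ℤ, nrm σ K (σ (g ^ i) u) = 1}
  mul_mem' {x y} hx hy := ⟨mul_mem hx.1 hy.1, fun i => by
    rw [map_mul, map_mul, hx.2, hy.2, one_mul]⟩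
  one_mem' := ⟨one_mem U, fun i => by rw [map_one, map_one]⟩
  inv_mem' {x} hx := ⟨inv_mem hx.1, fun i => by rw [map_inv, map_inv, hx.2, inv_one]⟩

theorem card_mul_le {X Y U : Subgroup V} (hX : X ≤ U) (hY : Y ≤ U) (hd : Disjoint X Y) :
    Nat.card X * Nat.card Y ≤ Nat.card (X ⊔ Y : Subgroup V) ∧
      Nat.card (X ⊔ Y : Subgroup V) ≤ Nat.card U := by
  refine ⟨?_, Subgroup.card_le_of_le (sup_le hX hY)⟩
  rw [← Nat.card_prod]
  refine Nat.card_le_card_of_injective (fun y : X × Y =>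
    (⟨(y.1 : V) * y.2, mul_mem (Subgroup.mem_sup_left y.1.2) (Subgroup.mem_sup_right y.2.2)⟩ :
      (X ⊔ Y : Subgroup V))) fun y z h => ?_
  exact Subgroup.mul_injective_of_disjoint hd (congrArg Subtype.val h)

theorem pow_act_mem (σ : B →* MulAut V) (g : B) (U : Subgroup V) (hUg : ∀ u ∈ U, σ g u ∈ U)
    (i : ℤ) {u : V} (hu : u ∈ U) : σ (g ^ i) u ∈ U := by
  have hnat : ∀ (m : ℕ), σ (g ^ m) u ∈ U := by
    intro m
    induction m with
    | zero => simpa using hu
    | succ m ihm => rw [pow_succ', act_mul]; exact hUg _ ihm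
  obtain ⟨m, hm⟩ := mem_powers_iff_mem_zpowers.2 (⟨i, rfl⟩ : g ^ i ∈ Subgroup.zpowers g)
  exact (show g ^ m = g ^ i from hm) ▸ hnat m

/-- An element fixing a point modulo `A`: every power of it differs from one fixing the point by an
element of `A`. -/
theorem exists_mul_zpow_fix (σ : B →* MulAut V) (A : Subgroup B) {g a : B} {v : V}
    (hg : ∀ x : B, g * x * g⁻¹ ∈ A ↔ x ∈ A) (ha : a ∈ A) (hv : σ (g * a) v = v) (i : ℤ) :
    ∃ c ∈ A, σ (c * g ^ i) v = v := by
  let M : Subgroup B :=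
    { carrier := {x | (∀ y : B, x * y * x⁻¹ ∈ A ↔ y ∈ A) ∧ ∃ c ∈ A, σ (c * x) v = v}
      one_mem' := ⟨fun y => by rw [one_mul, inv_one, mul_one], 1, one_mem A, by simp⟩
      mul_mem' := by
        rintro x y ⟨hx, c, hc, hcx⟩ ⟨hy, d, hd, hdy⟩
        refine ⟨fun z => ?_, c * (x * d * x⁻¹), mul_mem hc ((hx d).2 hd), ?_⟩
        · rw [show x * y * z * (x * y)⁻¹ = x * (y * z * y⁻¹) * x⁻¹ by group, hx, hy]
        · rw [show c * (x * d * x⁻¹) * (x * y) = (c * x) * (d * y) by group, act_mul, hdy, hcx]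
      inv_mem' := by
        rintro x ⟨hx, c, hc, hcx⟩
        refine ⟨fun z => ?_, x⁻¹ * c⁻¹ * x, ?_, ?_⟩
        · rw [← hx (x⁻¹ * z * x⁻¹⁻¹), show x * (x⁻¹ * z * x⁻¹⁻¹) * x⁻¹ = z by group]
        · rw [← hx, show x * (x⁻¹ * c⁻¹ * x) * x⁻¹ = c⁻¹ by group]
          exact inv_mem hc
        · conv_lhs => rw [← hcx]
          rw [← act_mul, show x⁻¹ * c⁻¹ * x * x⁻¹ * (c * x) = 1 by group, map_one]
          rfl }
  have hgM : g ∈ M := ⟨hg, g * a * g⁻¹, (hg a).2 ha, by
    rw [show g * a * g⁻¹ * g = g * a by group, hv]⟩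
  exact (Subgroup.zpow_mem M hgM i).2

theorem exists_moved {K : Subgroup B} {g : B} (h : ¬ ∀ k : B, g * k * g⁻¹ ∈ K ↔ k ∈ K) :
    ∃ k ∈ K, g * k * g⁻¹ ∉ K := by
  by_contra hno
  push Not at hno
  have hle : K.map (MulAut.conj g).toMonoidHom ≤ K := by
    rintro _ ⟨k, hk, rfl⟩
    exact hno k hk
  have he := Subgroup.eq_of_le_of_card_ge hle
    (Subgroup.card_map_of_injective (MulAut.conj g).injective).ge
  refine h fun k => ⟨fun h => ?_, hno k⟩
  rw [← he] at h
  obtain ⟨k', hk', e⟩ := h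
  simp only [MulEquiv.coe_toMonoidHom, MulAut.conj_apply, mul_left_inj, mul_right_inj] at e
  exact e ▸ hk'

/-- The bound on the images when `g` normalises `K`. -/
theorem prod_image_le (σ : B →* MulAut V) (A K : Subgroup B) [Fintype A] {g c : B} (U : Subgroup V)
    (hc : c ∈ A) (hgK : ∀ k : B, g * k * g⁻¹ ∈ K ↔ k ∈ K)
    (hKA : ∀ a ∈ A, ∀ k : B, a * k * a⁻¹ ∈ K ↔ k ∈ K)
    (hN : ∀ u ∈ U, nrm σ K u ∈ fixedIn σ K U)
    (hc' : ∀ u ∈ fixedIn σ K U, σ c u = u → u = 1) :
    (∏ a : A, Nat.card ((fix σ (g * a) ⊓ U).map (nrm σ K) : Subgroup V)) ^ 2 ≤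
      Nat.card (fixedIn σ K U) ^ Fintype.card A := by
  classical
  have hF : ∀ b : A, ∀ y ∈ (fix σ (g * b) ⊓ U).map (nrm σ K),
      y ∈ fixedIn σ K U ∧ σ (g * b) y = y := by
    rintro b _ ⟨s, hs, rfl⟩
    refine ⟨hN s hs.2, ?_⟩
    rw [act_nrm σ K (g * b) (fun k => ?_), show σ (g * b) s = s from hs.1]
    rw [show g * b * k * (g * b)⁻¹ = g * (b * k * (b : B)⁻¹) * g⁻¹ by group, hgK, hKA b b.2]
  have hpair : ∀ a : A, Nat.card ((fix σ (g * a) ⊓ U).map (nrm σ K) : Subgroup V) *
      Nat.card ((fix σ (g * (a * ⟨c, hc⟩ : A)) ⊓ U).map (nrm σ K) : Subgroup V) ≤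
      Nat.card (fixedIn σ K U) := by
    intro a
    have hd : Disjoint ((fix σ (g * a) ⊓ U).map (nrm σ K))
        ((fix σ (g * (a * ⟨c, hc⟩ : A)) ⊓ U).map (nrm σ K)) := by
      refine Subgroup.disjoint_def.2 fun {w} hw hw' => ?_
      have h1 := (hF _ w hw).2
      have h2 := (hF _ w hw').2
      rw [Subgroup.coe_mul, ← mul_assoc, act_mul] at h2
      exact hc' w (hF _ w hw).1 ((σ (g * a)).injective (h2.trans h1.symm))
    have h := card_mul_le (fun y hy => (hF _ y hy).1) (fun y hy => (hF _ y hy).1) hd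
    exact h.1.trans h.2
  calc _ = ∏ a : A, Nat.card ((fix σ (g * a) ⊓ U).map (nrm σ K) : Subgroup V) *
      Nat.card ((fix σ (g * (a * ⟨c, hc⟩ : A)) ⊓ U).map (nrm σ K) : Subgroup V) := by
        rw [Finset.prod_mul_distrib, sq]
        exact congrArg (_ * ·) (Equiv.prod_comp (Equiv.mulRight (⟨c, hc⟩ : A))
          fun a : A => Nat.card ((fix σ (g * a) ⊓ U).map (nrm σ K) : Subgroup V)).symm
    _ ≤ ∏ _a : A, Nat.card (fixedIn σ K U) := Finset.prod_le_prod' fun a _ => hpair a
    _ = _ := by rw [Finset.prod_const, Finset.card_univ]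

/-- When `g` moves `K`, the invariant kernel leaves room for two copies of the fixed points. -/
theorem room_moved (σ : B →* MulAut V) (K : Subgroup B) {g k : B} (U : Subgroup V)
    (hcop : (Nat.card V).Coprime (Nat.card K)) (hUg : ∀ u ∈ U, σ g u ∈ U)
    (hN : ∀ u ∈ U, nrm σ K u ∈ fixedIn σ K U) (hk : k ∈ K)
    (hcomm : ∀ v, σ (g * k * g⁻¹) (nrm σ K v) = nrm σ K (σ (g * k * g⁻¹) v))
    (hbig : ∀ u ∈ fixedIn σ K U, σ (g * k * g⁻¹) u = u → u = 1) :
    Nat.card (killed σ K g U) * (Nat.card (fixedIn σ K U) * Nat.card (fixedIn σ K U)) ≤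
      Nat.card U := by
  have hW : ∀ w ∈ killed σ K g U, nrm σ K w = 1 := fun w hw => by simpa using hw.2 0
  have hinv : ∀ u ∈ fixedIn σ K U, nrm σ K u = 1 → u = 1 := fun u hu h => by
    rw [nrm_of_fixed σ K hu.2] at h
    exact eq_one_of_pow hcop h
  -- the image of a fixed point under `g` has trivial norm
  have hkill : ∀ u ∈ fixedIn σ K U, nrm σ K (σ g u) = 1 := fun u hu => by
    refine hbig _ (hN _ (hUg u hu.1)) ?_
    rw [hcomm, ← act_mul, inv_mul_cancel_right, act_mul, hu.2 k hk]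
  have h1 := card_mul_le (X := killed σ K g U) (Y := fixedIn σ K U) (U := U) (fun _ h => h.1)
    (fun _ h => h.1) (Subgroup.disjoint_def.2 fun {w} hw hw' => hinv w hw' (hW w hw))
  set Y := (fixedIn σ K U).map (σ g).toMonoidHom with hY
  have hle : killed σ K g U ⊔ fixedIn σ K U ≤ U := sup_le (fun _ h => h.1) (fun _ h => h.1)
  have hd : Disjoint (killed σ K g U ⊔ fixedIn σ K U) Y := by
    refine Subgroup.disjoint_def.2 fun {x} hx hx' => ?_
    obtain ⟨w, hw, p, hp, rfl⟩ := Subgroup.mem_sup.1 hx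
    obtain ⟨r, hr, e⟩ := hx'
    change σ g r = w * p at e
    have hp1 : p = 1 := by
      refine hinv p hp ?_
      rw [← hkill r hr, e, map_mul, hW w hw, one_mul]
    subst hp1
    rw [mul_one] at e ⊢
    have h0 : r = 1 := by
      refine hinv r hr ?_
      have h2 := hw.2 (-1)
      rwa [← e, ← act_mul, zpow_neg_one, inv_mul_cancel, map_one, MulAut.one_apply] at h2
    rw [← e, h0, map_one]
  have h2 := card_mul_le hle (Y := Y) (by rintro _ ⟨r, hr, rfl⟩; exact hUg r hr.1) hd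
  have hc : Nat.card Y = Nat.card (fixedIn σ K U) :=
    Subgroup.card_map_of_injective (σ g).injective
  rw [← mul_assoc]
  calc _ ≤ Nat.card (killed σ K g U ⊔ fixedIn σ K U : Subgroup V) * Nat.card Y := by
        rw [hc]; exact Nat.mul_le_mul_right _ h1.1
    _ ≤ _ := h2.1.trans h2.2

/-- The squared product of the fixed points on a coset is at most the order to the power of the group. -/
theorem prod_coset_le (σ : B →* MulAut V) (A : Subgroup B) [Fintype A]
    (hA : ∀ a ∈ A, ∀ b ∈ A, a * b = b * a) (hcop : (Nat.card V).Coprime (Nat.card A)) (g : B)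
    (hg : ∀ a : B, g * a * g⁻¹ ∈ A ↔ a ∈ A) :
    ∀ (n : ℕ) (U : Subgroup V), Nat.card U ≤ n → (∀ a ∈ A, ∀ u ∈ U, σ a u ∈ U) →
      (∀ u ∈ U, σ g u ∈ U) → (∀ u ∈ U, (∀ a ∈ A, σ a u = u) → u = 1) →
      (∏ a : A, Nat.card (fix σ (g * a) ⊓ U : Subgroup V)) ^ 2 ≤ Nat.card U ^ Fintype.card A := by
  classical
  intro n
  induction n with
  | zero => intro U h; exact absurd h (by simp [Nat.card_pos.ne'])
  | succ n ih =>
    intro U hUn hUA hUg hfix
    by_cases hbot : U = ⊥
    · subst hbot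
      simp
    -- a largest subgroup of `A` with a common fixed point
    obtain ⟨K, ⟨hKA, u₀, hu₀, hu₀1, hu₀K⟩, hKmax⟩ := (Set.toFinite {K : Subgroup B | K ≤ A ∧
        ∃ u ∈ U, u ≠ 1 ∧ ∀ k ∈ K, σ k u = u}).exists_maximal
      ⟨⊥, bot_le, ((Subgroup.bot_or_exists_ne_one U).resolve_left hbot).elim fun u hu =>
        ⟨u, hu.1, hu.2, fun k hk => by rw [Subgroup.mem_bot.1 hk, map_one]; rfl⟩⟩
    -- a point fixed by a larger subgroup is trivial
    have hbig : ∀ c ∈ A, c ∉ K → ∀ u ∈ fixedIn σ K U, σ c u = u → u = 1 := by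
      intro c hc hcK u hu hcu
      by_contra hne
      have hle : K ⊔ Subgroup.zpowers c ≤ A := sup_le hKA (Subgroup.zpowers_le.2 hc)
      have h := hKmax ⟨hle, u, hu.1, hne, fun k hk => by
        have : K ⊔ Subgroup.zpowers c ≤ (MulAction.stabilizer (MulAut V) u).comap σ :=
          sup_le (fun x hx => hu.2 x hx) (Subgroup.zpowers_le.2 hcu)
        exact this hk⟩ le_sup_left
      exact hcK (h (Subgroup.mem_sup_right (Subgroup.mem_zpowers c)))
    have hKA' : ∀ a ∈ A, ∀ k : B, a * k * a⁻¹ ∈ K ↔ k ∈ K := fun a ha k => by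
      refine ⟨fun h => ?_, fun h => by rwa [hA a ha k (hKA h), mul_inv_cancel_right]⟩
      have h1 : a⁻¹ * (a * k * a⁻¹) * a = k := by group
      rw [← h1, hA a⁻¹ (inv_mem ha) _ (hKA h), inv_mul_cancel_right]
      exact h
    have hcopK : (Nat.card V).Coprime (Nat.card K) :=
      hcop.coprime_dvd_right (Subgroup.card_dvd_of_le hKA)
    have hNU : ∀ u ∈ U, nrm σ K u ∈ fixedIn σ K U := fun u hu => ⟨by
      have := Fintype.ofFinite K
      rw [nrm_apply]
      exact prod_mem fun k _ => hUA k (hKA k.2) u hu, fun k hk => nrm_fixed σ K hk u⟩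
    have hNA : ∀ a ∈ A, ∀ v, σ a (nrm σ K v) = nrm σ K (σ a v) := fun a ha =>
      act_nrm σ K a (hKA' a ha)
    have hgA : ∀ (i : ℤ) (a : B), g ^ i * a * (g ^ i)⁻¹ ∈ A ↔ a ∈ A := by
      intro i a
      have h1 : g ∈ Subgroup.normalizer (A : Set B) :=
        Subgroup.mem_normalizer_iff.2 fun a => (hg a).symm
      exact (Subgroup.mem_normalizer_iff.1 (Subgroup.zpow_mem _ h1 i) a).symm
    set W := killed σ K g U with hW
    have hWA : ∀ a ∈ A, ∀ u ∈ W, σ a u ∈ W := fun a ha u hu => ⟨hUA a ha u hu.1, fun i => by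
      rw [← act_mul, show g ^ i * a = (g ^ i * a * (g ^ i)⁻¹) * g ^ i by group, act_mul,
        ← hNA _ ((hgA i a).2 ha), hu.2, map_one]⟩
    have hWg : ∀ u ∈ W, σ g u ∈ W := fun u hu => ⟨hUg u hu.1, fun i => by
      rw [← act_mul, ← zpow_add_one, hu.2]⟩
    have hWlt : Nat.card W ≤ n := by
      have h1 : Nat.card W < Nat.card U := by
        refine lt_of_le_of_ne (Subgroup.card_le_of_le fun x hx => hx.1) fun h => hu₀1 ?_
        have h2 := (Subgroup.eq_of_le_of_card_ge (fun x (hx : x ∈ W) => hx.1) h.ge).ge hu₀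
        have h3 := h2.2 0
        rw [zpow_zero, map_one, MulAut.one_apply, nrm_of_fixed σ K hu₀K] at h3
        exact eq_one_of_pow hcopK h3
      omega
    have hW1 := ih W hWlt hWA hWg fun u hu h => hfix u hu.1 h
    -- the fixed points split
    have hsplit : ∀ a : A, Nat.card (fix σ (g * a) ⊓ U : Subgroup V) ≤
        Nat.card (fix σ (g * a) ⊓ W : Subgroup V) *
          Nat.card ((fix σ (g * a) ⊓ U).map (nrm σ K) : Subgroup V) := by
      intro a
      set S : Subgroup V := fix σ (g * a) ⊓ U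
      set f : S →* V := (nrm σ K).comp S.subtype with hf
      rw [← f.ker.card_mul_index, Subgroup.index_ker,
        show Nat.card f.range = Nat.card (S.map (nrm σ K) : Subgroup V) by
          rw [hf, MonoidHom.range_comp, Subgroup.range_subtype]]
      have hker : ∀ x : f.ker, ((x : S) : V) ∈ fix σ (g * a) ⊓ W := by
        intro x
        refine ⟨(x : S).2.1, (x : S).2.2, fun i => ?_⟩
        obtain ⟨c, hc, hci⟩ := exists_mul_zpow_fix σ A hg a.2 (x : S).2.1 i
        have h0 : nrm σ K ((x : S) : V) = 1 := x.2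
        have h1 : σ (g ^ i) ((x : S) : V) = σ c⁻¹ ((x : S) : V) := by
          conv_rhs => rw [← hci, ← act_mul, inv_mul_cancel_left]
        rw [h1, ← hNA _ (inv_mem hc), h0, map_one]
      exact Nat.mul_le_mul_right _ (Nat.card_le_card_of_injective
        (fun x : f.ker => (⟨_, hker x⟩ : (fix σ (g * a) ⊓ W : Subgroup V)))
        fun x y h => Subtype.ext (Subtype.ext
          (congrArg (fun t : (fix σ (g * a) ⊓ W : Subgroup V) => (t : V)) h)))
    -- bound on the images
    obtain ⟨Y, hY, hWY⟩ : ∃ Y : ℕ,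
        (∏ a : A, Nat.card ((fix σ (g * a) ⊓ U).map (nrm σ K) : Subgroup V)) ^ 2 ≤
          Y ^ Fintype.card A ∧ Nat.card W * Y ≤ Nat.card U := by
      by_cases hgK : ∀ k : B, g * k * g⁻¹ ∈ K ↔ k ∈ K
      · obtain ⟨c, hc, hcK⟩ : ∃ c ∈ A, c ∉ K := by
          by_contra h
          push Not at h
          exact hu₀1 (hfix u₀ hu₀ fun a ha => hu₀K a (h a ha))
        refine ⟨_, prod_image_le σ A K U hc hgK hKA' hNU (hbig c hc hcK), ?_⟩
        have hd : Disjoint W (fixedIn σ K U) := Subgroup.disjoint_def.2 fun {w} hw hw' => by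
          have h1 := hw.2 0
          rw [zpow_zero, map_one, MulAut.one_apply, nrm_of_fixed σ K hw'.2] at h1
          exact eq_one_of_pow hcopK h1
        have h := card_mul_le (X := W) (Y := fixedIn σ K U) (U := U) (fun _ h => h.1)
          (fun _ h => h.1) hd
        exact h.1.trans h.2
      · obtain ⟨k, hk, hkK⟩ := exists_moved hgK
        refine ⟨Nat.card (fixedIn σ K U) * Nat.card (fixedIn σ K U), ?_,
          room_moved σ K U hcopK hUg hNU hk (hNA _ ((hg k).2 (hKA hk)))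
            (hbig _ ((hg k).2 (hKA hk)) hkK)⟩
        rw [← sq, ← pow_mul, mul_comm, pow_mul]
        refine Nat.pow_le_pow_left ((Finset.prod_le_prod' fun a _ => ?_).trans_eq
          (by rw [Finset.prod_const, Finset.card_univ])) 2
        exact Subgroup.card_le_of_le (by rintro _ ⟨s, hs, rfl⟩; exact hNU s hs.2)
    calc (∏ a : A, Nat.card (fix σ (g * a) ⊓ U : Subgroup V)) ^ 2
        ≤ (∏ a : A, Nat.card (fix σ (g * a) ⊓ W : Subgroup V) *
            Nat.card ((fix σ (g * a) ⊓ U).map (nrm σ K) : Subgroup V)) ^ 2 :=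
          Nat.pow_le_pow_left (Finset.prod_le_prod' fun a _ => hsplit a) 2
      _ ≤ Nat.card W ^ Fintype.card A * Y ^ Fintype.card A := by
          rw [Finset.prod_mul_distrib, mul_pow]
          exact Nat.mul_le_mul hW1 hY
      _ ≤ Nat.card U ^ Fintype.card A := by
          rw [← mul_pow]
          exact Nat.pow_le_pow_left hWY _

end Cfsg.Agent.Block.PrimHalf
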