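import Cfsg.Agent.Lib.Block.PrimIdx.Main

/-!
The degree of a primitive character of a solvable group divides, prime by prime, some class size.
-/

set_option autoImplicit false

namespace Cfsg.Agent.Block.PrimHalf

open Cfsg

universe u

theorem charDegree_le_classSize {G : Type u} [Group G] [Fintype G] (hsolv : Group.IsSolvable G)
    (χ : Cfsg.IrrCharacter G)
    (hprim : ¬ ∃ (H : Subgroup G), H ≠ ⊤ ∧ ∃ θ : ↥H → ℂ,
      Cfsg.IsCharacter ↥H θ ∧ Cfsg.indFun H θ = (χ : G → ℂ)) (p : ℕ) [Fact p.Prime] :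
    ∃ g : G, (Cfsg.charDegree (χ : G → ℂ)).factorization p ≤
      ((Subgroup.centralizer ({g} : Set G)).index).factorization p := by
  obtain ⟨d, -, hd⟩ := Cfsg.Agent.Char.IsIrr.one_eq_pos χ.2
  obtain ⟨g, hg⟩ := Cfsg.Agent.Block.PrimIdx.exists_class_ge χ.2
    (fun H hH θ hθ h => hprim ⟨H, hH, θ, hθ, h⟩) p hd
  refine ⟨g, ?_⟩
  rwa [show Cfsg.charDegree (χ : G → ℂ) = d by simp [Cfsg.charDegree, hd]]

end Cfsg.Agent.Block.PrimHalf
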